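import Cfsg.Agent.J4.AC

/-! Data for the coordinates. -/

set_option autoImplicit false
set_option maxRecDepth 1000000
set_option maxHeartbeats 0

namespace CF.F24
open CF.Comp CF.Dce CF.J4

noncomputable def A0 : ℕ := (nat_lit 0xdf6b9b92f7354c3c81a12f319f2e61888cc4)
noncomputable def A1 : ℕ := (nat_lit 0x40026d46858e4480067de186c08669c074cc)
noncomputable def A2 : ℕ := (nat_lit 0x1f6df6f473bb00bcc7decea75f280c48d809)
noncomputable def C0 : ℕ := (nat_lit 0xa8454875dee674cec454fa8a422811428814)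
noncomputable def U0 : ℕ := (nat_lit 0x68fd45d27b390a907e879ca74ac8d8320110)
noncomputable def L7a : List (ℕ × ℕ) := [((nat_lit 0x800400200100080040020010008004002001), (nat_lit 0x800400200100080040020010008004002001)),
  ((nat_lit 0x80040080658fc071806a19d8d4fe06fc0e03), (nat_lit 0x80040060430e34ea467eabd69c0685c85680)),
  ((nat_lit 0x8004009c6f023c59888a349fa855c0c0e5c5), (nat_lit 0x8004004816cac8ce42aad5d420614ff4b14a)),
  ((nat_lit 0x8004001cee4900bcc7365355c04c08089c0d), (nat_lit 0x8004001cee4900bcc7365355c04c08089c0d)),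
  ((nat_lit 0x8004004816cac8ce42aad5d420614ff4b14a), (nat_lit 0x8004009c6f023c59888a349fa855c0c0e5c5)),
  ((nat_lit 0x80040060430e34ea467eabd69c0685c85680), (nat_lit 0x80040080658fc071806a19d8d4fe06fc0e03)),
  ((nat_lit 0x9d06a5d750d0fb6ea697b63e1d82a1c022e7), (nat_lit 0xd5be2ee0045bcc39588ab49b553a2a377a6c)),
  ((nat_lit 0x9d06a577345f331f66ffaff6c9fca33c0ce5), (nat_lit 0xd5be2ea04655f0d35ef61f5dc9bcabff0ced)),
  ((nat_lit 0x9d06a56b3ed2cf376e1f82b1b5576500e723), (nat_lit 0xd5be2e8813910cf75a22615f75db61c3eb27)),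
  ((nat_lit 0x9d06a5ebbf99f3d221a3e57bdd4eadc89eeb), (nat_lit 0xd5be2edceb12c485dfbee7de95f6263fc660)),
  ((nat_lit 0x9d06a5bf471a3ba0a43f63fa3d63ea34b3ac), (nat_lit 0xd5be2e5c6a59f86090028014fdefeef7bfa8)),
  ((nat_lit 0x9d06a59712dec784a0eb1df8810420085466), (nat_lit 0xd5be2e4060d4044898e2ad53814428cb546e)),
  ((nat_lit 0xe2ed5be0072ec80a6e7debee62695f37795a), (nat_lit 0x6a59d0d75fa5ff519057ba3eeaddd4c02dd1)),
  ((nat_lit 0xe2ed5b4063a1007bae15f226b6175dcb5758), (nat_lit 0x6a59d0971dabc3bb962b11f8765b55085b50)),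
  ((nat_lit 0xe2ed5b5c692cfc53a6f5df61cabc9bf7bc9e), (nat_lit 0x6a59d0bf486f3f9f92ff6ffaca3c9f34bc9a)),
  ((nat_lit 0xe2ed5bdce867c0b6e949b8aba2a5533fc556), (nat_lit 0x6a59d0ebb0ecf7ed1763e97b2a11d8c891dd)),
  ((nat_lit 0xe2ed5b8810e408c46cd53e2a428814c3e811), (nat_lit 0x6a59d06b31a7cb0858df8eb142081000e815)),
  ((nat_lit 0xe2ed5ba04520f4e068014028feefdeff0fdb), (nat_lit 0x6a59d0773b2a3720503fa3f63ea3d63c03d3)),
  ((nat_lit 0x400800200d000c3c03355365c08c04002c42), (nat_lit 0x400800200d000c3c03355365c08c04002c42)),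
  ((nat_lit 0x40080080698fc44dc35d4aad14f206fc0240), (nat_lit 0x400800604f0e30d60549f8a35c0a85c85ac3)),
  ((nat_lit 0x4008009c63023865cbbd67ea6859c0c0e986), (nat_lit 0x400800481acaccf2019d86a1e06d4ff4bd09)),
  ((nat_lit 0x4008001ce24904808401002000400808904e), (nat_lit 0x4008001ce24904808401002000400808904e)),
  ((nat_lit 0x400800481acaccf2019d86a1e06d4ff4bd09), (nat_lit 0x4008009c63023865cbbd67ea6859c0c0e986)),
  ((nat_lit 0x400800604f0e30d60549f8a35c0a85c85ac3), (nat_lit 0x40080080698fc44dc35d4aad14f206fc0240)),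
  ((nat_lit 0x6a59d0d75fa5ff519057ba3eeaddd4c02dd1), (nat_lit 0xe2ed5be0072ec80a6e7debee62695f37795a)),
  ((nat_lit 0x6a59d0773b2a3720503fa3f63ea3d63c03d3), (nat_lit 0xe2ed5ba04520f4e068014028feefdeff0fdb)),
  ((nat_lit 0x6a59d06b31a7cb0858df8eb142081000e815), (nat_lit 0xe2ed5b8810e408c46cd53e2a428814c3e811)),
  ((nat_lit 0x6a59d0ebb0ecf7ed1763e97b2a11d8c891dd), (nat_lit 0xe2ed5bdce867c0b6e949b8aba2a5533fc556)),
  ((nat_lit 0x6a59d0bf486f3f9f92ff6ffaca3c9f34bc9a), (nat_lit 0xe2ed5b5c692cfc53a6f5df61cabc9bf7bc9e)),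
  ((nat_lit 0x6a59d0971dabc3bb962b11f8765b55085b50), (nat_lit 0xe2ed5b4063a1007bae15f226b6175dcb5758)),
  ((nat_lit 0xd5be2ee0045bcc39588ab49b553a2a377a6c), (nat_lit 0x9d06a5d750d0fb6ea697b63e1d82a1c022e7)),
  ((nat_lit 0xd5be2e4060d4044898e2ad53814428cb546e), (nat_lit 0x9d06a59712dec784a0eb1df8810420085466)),
  ((nat_lit 0xd5be2e5c6a59f86090028014fdefeef7bfa8), (nat_lit 0x9d06a5bf471a3ba0a43f63fa3d63ea34b3ac)),
  ((nat_lit 0xd5be2edceb12c485dfbee7de95f6263fc660), (nat_lit 0x9d06a5ebbf99f3d221a3e57bdd4eadc89eeb)),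
  ((nat_lit 0xd5be2e8813910cf75a22615f75db61c3eb27), (nat_lit 0x9d06a56b3ed2cf376e1f82b1b5576500e723)),
  ((nat_lit 0xd5be2ea04655f0d35ef61f5dc9bcabff0ced), (nat_lit 0x9d06a577345f331f66ffaff6c9fca33c0ce5))]
noncomputable def L7b : List (ℕ × ℕ) := [((nat_lit 0x800400200100080040020010008004002001), (nat_lit 0x800400200100080040020010008004002001)),
  ((nat_lit 0x9d06a5d750d0fb6ea697b63e1d82a1c022e7), (nat_lit 0xd5be2ee0045bcc39588ab49b553a2a377a6c)),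
  ((nat_lit 0xe2ed5be0072ec80a6e7debee62695f37795a), (nat_lit 0x6a59d0d75fa5ff519057ba3eeaddd4c02dd1)),
  ((nat_lit 0x400800200d000c3c03355365c08c04002c42), (nat_lit 0x400800200d000c3c03355365c08c04002c42)),
  ((nat_lit 0x6a59d0d75fa5ff519057ba3eeaddd4c02dd1), (nat_lit 0xe2ed5be0072ec80a6e7debee62695f37795a)),
  ((nat_lit 0xd5be2ee0045bcc39588ab49b553a2a377a6c), (nat_lit 0x9d06a5d750d0fb6ea697b63e1d82a1c022e7)),
  ((nat_lit 0x587ace952eb1c784a42de1a7814428c3581a), (nat_lit 0x587ace952eb1c784a42de1a7814428c3581a)),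
  ((nat_lit 0x587aced9a014f4e2c9520a59d4fe06076234), (nat_lit 0x8c04cc61b3f63ba62171ab2a553a2a039693)),
  ((nat_lit 0x587acebf749f30df5af0ef02c9fca3f40091), (nat_lit 0x10824da17a3ef3d36ef99fa5c9bcab37c099)),
  ((nat_lit 0x587ace6642b1c3b792dabed2b6175dc76b6f), (nat_lit 0xace5879521f8cf3b66ed2dab75db61c357d8)),
  ((nat_lit 0x587aceeacf61f0de8a65592c14f206035e34), (nat_lit 0x4cc8c061bffa331aa645f86f95f626039a14)),
  ((nat_lit 0x587ace7b47ea34e06c30e3023ea3d6f03fe4), (nat_lit 0x24d108a1797bfb60a00d00ecfdefee37c357))]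
noncomputable def LP : List (ℕ × ℕ) := [((nat_lit 0x800400200100080040020010008004002001), (nat_lit 0x800400200100080040020010008004002001)),
  ((nat_lit 0x42635502ea738a75aea29a134962b55e62b0), (nat_lit 0x9ef7548093bb6afd16c062a1d540913c3094)),
  ((nat_lit 0x8abaa9c8c6ca4000eba2c14ad409e9c359ec), (nat_lit 0x9f1080d7d8c84251b1bf828e81474017d745)),
  ((nat_lit 0x3793c042fdb9b66cf3de923422649a35c49f), (nat_lit 0xe2f5e59ec6ca34b86d80794d6b28b69558b3)),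
  ((nat_lit 0x1f6df6f473bb00bcc7decea75f280c48d809), (nat_lit 0xe342349c6db963f4cfd59e9940ca3ceb5a39)),
  ((nat_lit 0x6073cf0943bb0b45342800219f4295b5e290), (nat_lit 0x6073cf0943bb0b45342800219f4295b5e290)),
  ((nat_lit 0xa9e42516f471b7d2de8b2771c3f48481e481), (nat_lit 0xe1eea72ab3bbaa965eaa275442340a96140f)),
  ((nat_lit 0x811a13a07a730102ea8b7be2beb812fcf817), (nat_lit 0xe059762818c8fddafcffc08069d680e81685)),
  ((nat_lit 0x409fc3e1d4713cf73af724253479d876c9dd), (nat_lit 0xc8594d1eb6caa1367e958cbda9bbd3152bd6)),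
  ((nat_lit 0x88463f2bf8c8f6827ff77f7ca91284ebf281), (nat_lit 0xc9be9949fdb9899ad9ea6c92fdbc023ecc07)),
  ((nat_lit 0xa94de7942471e99cd657bb57562e18033e1d), (nat_lit 0xa94de7942471e99cd657bb57562e18033e1d)),
  ((nat_lit 0x493a28bd66caead9a27dbb66c9ec89b6fc8c), (nat_lit 0x493a28bd66caead9a27dbb66c9ec89b6fc8c)),
  ((nat_lit 0x96e01f3eaa7377145f63b68fe315f16225f4), (nat_lit 0xbeeb57c39471cbdf17224fc3e8e16a54816f)),
  ((nat_lit 0x758c92a39db9ea7f1863e8a755cbdcd4abd9), (nat_lit 0xc0eb7dbedf02c9244e5dfab796b3e55563e0)),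
  ((nat_lit 0x542c3329a100fc3671ff9760881165098160), (nat_lit 0xd5189988810003ab13a12c33c0bd66a8ad63)),
  ((nat_lit 0xe059762818c8fddafcffc08069d680e81685), (nat_lit 0x811a13a07a730102ea8b7be2beb812fcf817)),
  ((nat_lit 0x217b66c0d6cae2cd9d081aa95d76a5cb46a0), (nat_lit 0x5d22a140f3bb234f2949b3cf576211fc5214)),
  ((nat_lit 0x2230212143bb0303ab08434b0b8f429def47), (nat_lit 0x23728e6858c85e54751c014056d5c5a855c0)),
  ((nat_lit 0x9f1080d7d8c84251b1bf828e81474017d745), (nat_lit 0x8abaa9c8c6ca4000eba2c14ad409e9c359ec)),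
  ((nat_lit 0xd0b4817a7314a33ebfd01f4b35d4ddf5d1), (nat_lit 0xa15fddca3db968feec88c3c08059c3bd09c6)),
  ((nat_lit 0x5d22a140f3bb234f2949b3cf576211fc5214), (nat_lit 0x217b66c0d6cae2cd9d081aa95d76a5cb46a0)),
  ((nat_lit 0xbe4e2cddc471be246e49ede7e1bc3c4adc39), (nat_lit 0x5f7b4cbd9db9e036c477afdd23242acaa42f)),
  ((nat_lit 0xe342349c6db963f4cfd59e9940ca3ceb5a39), (nat_lit 0x1f6df6f473bb00bcc7decea75f280c48d809)),
  ((nat_lit 0x5737719dd471621842d5c979a10dd90acddc), (nat_lit 0x4b6f7cdc88c802153ef49976212d781c8d7d)),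
  ((nat_lit 0xbda0102201002a1121221621be188d022888), (nat_lit 0xe8b0301601000a0f03360400e2a225362220)),
  ((nat_lit 0xbeeb57c39471cbdf17224fc3e8e16a54816f), (nat_lit 0x96e01f3eaa7377145f63b68fe315f16225f4)),
  ((nat_lit 0xc8594d1eb6caa1367e958cbda9bbd3152bd6), (nat_lit 0x409fc3e1d4713cf73af724253479d876c9dd)),
  ((nat_lit 0x579979481471f7c4f195de2c63c947df0942), (nat_lit 0x6b7ab7e32f0214093ddd26af6029f20899f7))]
noncomputable def LC : List (ℕ × ℕ) := [((nat_lit 0x800400200100080040020010008004002001), (nat_lit 0x800400200100080040020010008004002001)),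
  ((nat_lit 0x27f1d53022038ab47d44e88922531f1f526f), (nat_lit 0x2e31b1d63bf196e7f740280136c1984928f1)),
  ((nat_lit 0x47dcd62e41b8dd7ba92743ac803c02bd9d77), (nat_lit 0xc6d8f64a5c7a3522e33d3172c894c749f8fa)),
  ((nat_lit 0xb9b66d735e1ac81842523a127939f244c888), (nat_lit 0x91872c0f4098f25a3a567a9e63cb28362191)),
  ((nat_lit 0x28014032f235ad05a05c8a44520a106f5b6f), (nat_lit 0x2cd1868484cc0480cc542a815eea598a3cd2)),
  ((nat_lit 0xe9996ea3951e40dc067589b4ee575f2d737e), (nat_lit 0x658dec97e7d71d53aa639b27be8d546a0bd0)),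
  ((nat_lit 0x480cc480c40400c00b4cd88d866cd1be2e9), (nat_lit 0xc0080df0b90280140e0570f940e807d8974)),
  ((nat_lit 0x49bc6d8df4a51b13521722a14c784e8fac65), (nat_lit 0xcd68ab1b835cba967e1d82744018036aebd9)),
  ((nat_lit 0x67edd7eb595af33a11b3ad25e6c79825b3b6), (nat_lit 0xe6a9ffba46788f649be1f73abebd561582b4)),
  ((nat_lit 0x795e6addcba4c6d8f673a925d566bd2b43ec), (nat_lit 0xdd7ba995a7efa1152261fb3a9f4e6c1ed25b)),
  ((nat_lit 0xaa25735b4f58df6b9bc694971a12d3e49787), (nat_lit 0xa3a51f88544a573fd18a7cde1e525f76b996)),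
  ((nat_lit 0xad05a030e207795e6a360190f2a5150c704e), (nat_lit 0xa115222491ce2cd186221313a2ff1a4b28e1)),
  ((nat_lit 0x72ce3409806ca3a51fff9567d1463c2f3362), (nat_lit 0xdf6b9b92f7354c3c81a12f319f2e61888cc4)),
  ((nat_lit 0x8424c3c3981edecbb4de765e642b81b00d00), (nat_lit 0x80b40d40ec07e349189efe5a7819c3913e32)),
  ((nat_lit 0x658dec97e7d71d53aa639b27be8d546a0bd0), (nat_lit 0xe9996ea3951e40dc067589b4ee575f2d737e)),
  ((nat_lit 0x2cd1868484cc0480cc542a815eea598a3cd2), (nat_lit 0x28014032f235ad05a05c8a44520a106f5b6f)),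
  ((nat_lit 0x51ff2544accffd1aa24798a73ba1e5efd76b), (nat_lit 0xfd1aa2aec5b466ddf64978fe2d33727879ce)),
  ((nat_lit 0x80b40d40ec07e349189efe5a7819c3913e32), (nat_lit 0x8424c3c3981edecbb4de765e642b81b00d00)),
  ((nat_lit 0xc0080df0b90280140e0570f940e807d8974), (nat_lit 0x480cc480c40400c00b4cd88d866cd1be2e9)),
  ((nat_lit 0xa115222491ce2cd186221313a2ff1a4b28e1), (nat_lit 0xad05a030e207795e6a360190f2a5150c704e)),
  ((nat_lit 0x1b1352bf16927f7e99c034022f436cc63492), (nat_lit 0x3aa27f101302cd68ab889cc731f13a26f39a))]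
noncomputable def LU : List (ℕ × ℕ × ℕ × List ℕ × List ℕ) := [((nat_lit 0x1802ceca98f0a907ed0360208d0cb701903), (nat_lit 0xd4568f5d1a737549bc02503a01602b01902e), (nat_lit 0xd4568f5d1a737549bc02503a01602b01902e), [(nat_lit 1)], [(nat_lit 0), (nat_lit 1), (nat_lit 2), (nat_lit 2), (nat_lit 2), (nat_lit 2), (nat_lit 2), (nat_lit 0), (nat_lit 2), (nat_lit 0), (nat_lit 2), (nat_lit 0), (nat_lit 2), (nat_lit 2), (nat_lit 0), (nat_lit 0), (nat_lit 2), (nat_lit 0), (nat_lit 2), (nat_lit 0), (nat_lit 2), (nat_lit 3), (nat_lit 3)]),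
  ((nat_lit 0x68fd45d27b390a907e879ca74ac8d8320110), (nat_lit 0x800400200100080040020010008004002001), (nat_lit 0x800400200100080040020010008004002001), [(nat_lit 1)], [(nat_lit 2)]),
  ((nat_lit 0x7cae8f3502e0653de163db2b0d307291be36), (nat_lit 0xd4568f5d1a737549bc02503a01602b01902e), (nat_lit 0xd4568f5d1a737549bc02503a01602b01902e), [(nat_lit 1)], [(nat_lit 2), (nat_lit 3)]),
  ((nat_lit 0x13021af859c485c4a846c8d48d8cb301103), (nat_lit 0x800400200100080040020010008004002001), (nat_lit 0x800400200100080040020010008004002001), [(nat_lit 1)], [(nat_lit 0), (nat_lit 1), (nat_lit 2), (nat_lit 2), (nat_lit 2), (nat_lit 2), (nat_lit 2), (nat_lit 0), (nat_lit 2), (nat_lit 0), (nat_lit 2), (nat_lit 0), (nat_lit 2), (nat_lit 2), (nat_lit 0), (nat_lit 0), (nat_lit 2), (nat_lit 0), (nat_lit 2), (nat_lit 0), (nat_lit 2), (nat_lit 3)]),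
  ((nat_lit 0x1de3a7ba46782a517a5bdaeb2fd36b6d1b73), (nat_lit 0x658dec97e7d71d53aa639b27be8d546a0bd0), (nat_lit 0xe9996ea3951e40dc067589b4ee575f2d737e), [(nat_lit 1), (nat_lit 3)], [(nat_lit 0), (nat_lit 1), (nat_lit 2), (nat_lit 2), (nat_lit 2), (nat_lit 2), (nat_lit 2), (nat_lit 0), (nat_lit 2), (nat_lit 0), (nat_lit 2), (nat_lit 0), (nat_lit 2), (nat_lit 2), (nat_lit 0), (nat_lit 0), (nat_lit 2), (nat_lit 0), (nat_lit 2), (nat_lit 0), (nat_lit 2), (nat_lit 3), (nat_lit 3)]),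
  ((nat_lit 0x42bc3dfbaa5f17a3df1182341992f7dad6db), (nat_lit 0xacef49eb17e34a48dc3792dec3c81442fc35), (nat_lit 0xacef49eb17e34a48dc3792dec3c81442fc35), [(nat_lit 1), (nat_lit 3)], [(nat_lit 2), (nat_lit 3), (nat_lit 3)]),
  ((nat_lit 0x1db3add86b4babd55651ea39be7d5e6afbda), (nat_lit 0x658dec97e7d71d53aa639b27be8d546a0bd0), (nat_lit 0xe9996ea3951e40dc067589b4ee575f2d737e), [(nat_lit 1), (nat_lit 3)], [(nat_lit 2)]),
  ((nat_lit 0x1db3ad736e1bc3981e1322213ff16aa9bff6), (nat_lit 0xacef49eb17e34a48dc3792dec3c81442fc35), (nat_lit 0xacef49eb17e34a48dc3792dec3c81442fc35), [(nat_lit 1), (nat_lit 3)], [(nat_lit 0), (nat_lit 1), (nat_lit 2), (nat_lit 2), (nat_lit 2), (nat_lit 2), (nat_lit 2), (nat_lit 0), (nat_lit 2), (nat_lit 0), (nat_lit 2), (nat_lit 0), (nat_lit 2), (nat_lit 2), (nat_lit 0), (nat_lit 0), (nat_lit 2), (nat_lit 0), (nat_lit 2), (nat_lit 0), (nat_lit 2)]),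
  ((nat_lit 0x653de1db7b5908504a8c3c4248d8cb8bfcea), (nat_lit 0x94de8b8b3ce269cbf80bd0560d30a1b1f625), (nat_lit 0x94de8b8b3ce269cbf80bd0560d30a1b1f625), [(nat_lit 1), (nat_lit 3), (nat_lit 3)], [(nat_lit 2)]),
  ((nat_lit 0x653de1f01a024a4c7833d12b9e4e5ce28714), (nat_lit 0xe9996ea3951e40dc067589b4ee575f2d737e), (nat_lit 0x658dec97e7d71d53aa639b27be8d546a0bd0), [(nat_lit 1), (nat_lit 3), (nat_lit 3)], [(nat_lit 0), (nat_lit 1), (nat_lit 2), (nat_lit 2), (nat_lit 2), (nat_lit 2), (nat_lit 2), (nat_lit 0), (nat_lit 2), (nat_lit 0), (nat_lit 2), (nat_lit 0), (nat_lit 2), (nat_lit 2), (nat_lit 0), (nat_lit 0), (nat_lit 2), (nat_lit 0), (nat_lit 2), (nat_lit 0), (nat_lit 2)]),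
  ((nat_lit 0x65cde4011022de9bbe88ccc8408804ff656d), (nat_lit 0xe9996ea3951e40dc067589b4ee575f2d737e), (nat_lit 0x658dec97e7d71d53aa639b27be8d546a0bd0), [(nat_lit 1), (nat_lit 3), (nat_lit 3)], [(nat_lit 2)]),
  ((nat_lit 0x429c3e9ea7bfc3881cd866cdb80dc0d1763e), (nat_lit 0x94de8b8b3ce269cbf80bd0560d30a1b1f625), (nat_lit 0x94de8b8b3ce269cbf80bd0560d30a1b1f625), [(nat_lit 1), (nat_lit 3), (nat_lit 3)], [(nat_lit 0), (nat_lit 1), (nat_lit 2), (nat_lit 2), (nat_lit 2), (nat_lit 2), (nat_lit 2), (nat_lit 0), (nat_lit 2), (nat_lit 0), (nat_lit 2), (nat_lit 0), (nat_lit 2), (nat_lit 2), (nat_lit 0), (nat_lit 0), (nat_lit 2), (nat_lit 0), (nat_lit 2), (nat_lit 0), (nat_lit 2), (nat_lit 3)])]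
noncomputable def spP : List (List (List ℕ)) := [[[(nat_lit 0)]],
  [[], [(nat_lit 0)], [(nat_lit 0), (nat_lit 0), (nat_lit 0)]],
  [[], [(nat_lit 0), (nat_lit 0)], [(nat_lit 0), (nat_lit 0), (nat_lit 0)]]]
noncomputable def spA : ℕ := (nat_lit 0xde4f9408dfed17a00a65c5fc0cb55b2a5005)
noncomputable def spI : ℕ := (nat_lit 0x1a8b86cf3033ea47ba25451dca5957ce5956)
noncomputable def spS : List St := [⟨1, 0, 0, [(nat_lit 1)], [(nat_lit 0), (nat_lit 5), (nat_lit 10), (nat_lit 15), (nat_lit 368), (nat_lit 373), (nat_lit 378), (nat_lit 383), (nat_lit 672), (nat_lit 677), (nat_lit 682), (nat_lit 687), (nat_lit 976), (nat_lit 981), (nat_lit 986), (nat_lit 991), (nat_lit 1057), (nat_lit 1060), (nat_lit 1067), (nat_lit 1070), (nat_lit 1361), (nat_lit 1364), (nat_lit 1371), (nat_lit 1374), (nat_lit 1665), (nat_lit 1668), (nat_lit 1675), (nat_lit 1678), (nat_lit 2033), (nat_lit 2036), (nat_lit 2043),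 (nat_lit 2046), (nat_lit 2067), (nat_lit 2070), (nat_lit 2073), (nat_lit 2076), (nat_lit 2403), (nat_lit 2406), (nat_lit 2409), (nat_lit 2412), (nat_lit 2739), (nat_lit 2742), (nat_lit 2745), (nat_lit 2748), (nat_lit 3011), (nat_lit 3014), (nat_lit 3017), (nat_lit 3020), (nat_lit 3122), (nat_lit 3127), (nat_lit 3128), (nat_lit 3133), (nat_lit 3394), (nat_lit 3399), (nat_lit 3400), (nat_lit 3405), (nat_lit 3730), (nat_lit 3735), (nat_lit 3736), (nat_lit 3741), (nat_lit 4066), (nat_lit 4071), (nat_lit 4072), (nat_lit 4077)]⟩,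
  ⟨0, 0, 0, [], []⟩,
  ⟨0, 1, 0, [], []⟩,
  ⟨1, 0, 0, [(nat_lit 2)], [(nat_lit 0), (nat_lit 70), (nat_lit 141), (nat_lit 203), (nat_lit 283), (nat_lit 349), (nat_lit 406), (nat_lit 464), (nat_lit 566), (nat_lit 624), (nat_lit 699), (nat_lit 765), (nat_lit 813), (nat_lit 875), (nat_lit 928), (nat_lit 998), (nat_lit 1068), (nat_lit 1130), (nat_lit 1185), (nat_lit 1255), (nat_lit 1335), (nat_lit 1393), (nat_lit 1466), (nat_lit 1532), (nat_lit 1562), (nat_lit 1628), (nat_lit 1687), (nat_lit 1745), (nat_lit 1793), (nat_lit 1863), (nat_lit 1932), (nat_lit 1994), (nat_lit 2072), (nat_lit 2142), (nat_lit 2197), (nat_lit 2259), (nat_lit 2307), (nat_lit 2373), (nat_lit 2446), (nat_lit 2504), (nat_lit 2606), (nat_lit 2664), (nat_lit 2723), (nat_lit 2789), (nat_lit 2869), (nat_lit 2931), (nat_lit 3000), (nat_lit 3070), (nat_lit 3124), (nat_lit 3186), (nat_lit 3257), (nat_lit 3327), (nat_lit 3375),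 (nat_lit 3433), (nat_lit 3490), (nat_lit 3556), (nat_lit 3586), (nat_lit 3652), (nat_lit 3727), (nat_lit 3785), (nat_lit 3865), (nat_lit 3935), (nat_lit 3988), (nat_lit 4050)]⟩,
  ⟨0, 3, 0, [], []⟩,
  ⟨0, 4, 0, [], []⟩,
  ⟨1, 0, 0, [(nat_lit 1)], [(nat_lit 0), (nat_lit 5), (nat_lit 10), (nat_lit 15), (nat_lit 368), (nat_lit 373), (nat_lit 378), (nat_lit 383), (nat_lit 672), (nat_lit 677), (nat_lit 682), (nat_lit 687), (nat_lit 976), (nat_lit 981), (nat_lit 986), (nat_lit 991), (nat_lit 1057), (nat_lit 1060), (nat_lit 1067), (nat_lit 1070), (nat_lit 1361), (nat_lit 1364), (nat_lit 1371), (nat_lit 1374), (nat_lit 1665), (nat_lit 1668), (nat_lit 1675), (nat_lit 1678), (nat_lit 2033), (nat_lit 2036), (nat_lit 2043), (nat_lit 2046), (nat_lit 2067), (nat_lit 2070), (nat_lit 2073), (nat_lit 2076), (nat_lit 2403), (nat_lit 2406), (nat_lit 2409), (nat_lit 2412), (nat_lit 2739), (nat_lit 2742),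 (nat_lit 2745), (nat_lit 2748), (nat_lit 3011), (nat_lit 3014), (nat_lit 3017), (nat_lit 3020), (nat_lit 3122), (nat_lit 3127), (nat_lit 3128), (nat_lit 3133), (nat_lit 3394), (nat_lit 3399), (nat_lit 3400), (nat_lit 3405), (nat_lit 3730), (nat_lit 3735), (nat_lit 3736), (nat_lit 3741), (nat_lit 4066), (nat_lit 4071), (nat_lit 4072), (nat_lit 4077)]⟩,
  ⟨0, 6, 0, [], []⟩,
  ⟨0, 7, 0, [], []⟩,
  ⟨1, 0, 0, [(nat_lit 2)], [(nat_lit 0), (nat_lit 70), (nat_lit 141), (nat_lit 203), (nat_lit 283), (nat_lit 349), (nat_lit 406), (nat_lit 464), (nat_lit 566), (nat_lit 624), (nat_lit 699), (nat_lit 765), (nat_lit 813), (nat_lit 875), (nat_lit 928), (nat_lit 998), (nat_lit 1068), (nat_lit 1130), (nat_lit 1185), (nat_lit 1255), (nat_lit 1335), (nat_lit 1393), (nat_lit 1466), (nat_lit 1532), (nat_lit 1562), (nat_lit 1628), (nat_lit 1687), (nat_lit 1745), (nat_lit 1793), (nat_lit 1863), (nat_lit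 1932), (nat_lit 1994), (nat_lit 2072), (nat_lit 2142), (nat_lit 2197), (nat_lit 2259), (nat_lit 2307), (nat_lit 2373), (nat_lit 2446), (nat_lit 2504), (nat_lit 2606), (nat_lit 2664), (nat_lit 2723), (nat_lit 2789), (nat_lit 2869), (nat_lit 2931), (nat_lit 3000), (nat_lit 3070), (nat_lit 3124), (nat_lit 3186), (nat_lit 3257), (nat_lit 3327), (nat_lit 3375), (nat_lit 3433), (nat_lit 3490), (nat_lit 3556), (nat_lit 3586), (nat_lit 3652), (nat_lit 3727), (nat_lit 3785), (nat_lit 3865), (nat_lit 3935), (nat_lit 3988), (nat_lit 4050)]⟩,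
  ⟨0, 9, 0, [], []⟩,
  ⟨0, 10, 0, [], []⟩]
noncomputable def scP : List (List (List ℕ)) := [[[(nat_lit 0)]],
  [[(nat_lit 1)]],
  [[], [(nat_lit 0)], [(nat_lit 0), (nat_lit 0), (nat_lit 0)]],
  [[], [(nat_lit 0), (nat_lit 0)], [(nat_lit 0), (nat_lit 0), (nat_lit 0)]]]
noncomputable def scA : ℕ := (nat_lit 0xbb8a68de4046f9408dfed17a55b00a2a5005)
noncomputable def scI : ℕ := (nat_lit 0xb7027ac17e838d8f324cc5698996af89d6ae)
noncomputable def scS : List St := [⟨1, 0, 0, [(nat_lit 2)], [(nat_lit 0), (nat_lit 5), (nat_lit 10), (nat_lit 15), (nat_lit 368), (nat_lit 373), (nat_lit 378), (nat_lit 383), (nat_lit 672), (nat_lit 677), (nat_lit 682), (nat_lit 687), (nat_lit 976), (nat_lit 981), (nat_lit 986), (nat_lit 991), (nat_lit 1057), (nat_lit 1060), (nat_lit 1067), (nat_lit 1070), (nat_lit 1361), (nat_lit 1364), (nat_lit 1371), (nat_lit 1374), (nat_lit 1665), (nat_lit 1668), (nat_lit 1675),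 (nat_lit 1678), (nat_lit 2033), (nat_lit 2036), (nat_lit 2043), (nat_lit 2046), (nat_lit 2067), (nat_lit 2070), (nat_lit 2073), (nat_lit 2076), (nat_lit 2403), (nat_lit 2406), (nat_lit 2409), (nat_lit 2412), (nat_lit 2739), (nat_lit 2742), (nat_lit 2745), (nat_lit 2748), (nat_lit 3011), (nat_lit 3014), (nat_lit 3017), (nat_lit 3020), (nat_lit 3122), (nat_lit 3127), (nat_lit 3128), (nat_lit 3133), (nat_lit 3394), (nat_lit 3399), (nat_lit 3400), (nat_lit 3405), (nat_lit 3730), (nat_lit 3735), (nat_lit 3736), (nat_lit 3741), (nat_lit 4066), (nat_lit 4071), (nat_lit 4072), (nat_lit 4077)]⟩,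
  ⟨0, 0, 0, [], []⟩,
  ⟨0, 0, 1, [], []⟩,
  ⟨0, 1, 0, [], []⟩,
  ⟨0, 1, 1, [], []⟩,
  ⟨0, 3, 1, [], []⟩,
  ⟨1, 0, 0, [(nat_lit 3)], [(nat_lit 0), (nat_lit 70), (nat_lit 141), (nat_lit 203), (nat_lit 283), (nat_lit 349), (nat_lit 406), (nat_lit 464), (nat_lit 566), (nat_lit 624), (nat_lit 699), (nat_lit 765), (nat_lit 813), (nat_lit 875), (nat_lit 928), (nat_lit 998), (nat_lit 1068), (nat_lit 1130), (nat_lit 1185), (nat_lit 1255), (nat_lit 1335), (nat_lit 1393), (nat_lit 1466), (nat_lit 1532), (nat_lit 1562), (nat_lit 1628), (nat_lit 1687), (nat_lit 1745), (nat_lit 1793), (nat_lit 1863), (nat_lit 1932), (nat_lit 1994), (nat_lit 2072), (nat_lit 2142), (nat_lit 2197), (nat_lit 2259), (nat_lit 2307), (nat_lit 2373), (nat_lit 2446), (nat_lit 2504), (nat_lit 2606), (nat_lit 2664), (nat_lit 2723), (nat_lit 2789), (nat_lit 2869), (nat_lit 2931), (nat_lit 3000), (nat_lit 3070), (nat_lit 3124),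 (nat_lit 3186), (nat_lit 3257), (nat_lit 3327), (nat_lit 3375), (nat_lit 3433), (nat_lit 3490), (nat_lit 3556), (nat_lit 3586), (nat_lit 3652), (nat_lit 3727), (nat_lit 3785), (nat_lit 3865), (nat_lit 3935), (nat_lit 3988), (nat_lit 4050)]⟩,
  ⟨0, 6, 0, [], []⟩,
  ⟨0, 6, 1, [], []⟩,
  ⟨0, 7, 0, [], []⟩,
  ⟨0, 7, 1, [], []⟩,
  ⟨0, 9, 1, [], []⟩]
noncomputable def su0P : List (List (List ℕ)) := [[[(nat_lit 1)]],
  [[], [(nat_lit 0)]],
  [[(nat_lit 0)], [(nat_lit 1)]],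
  [[(nat_lit 0)], [(nat_lit 1), (nat_lit 1)]]]
noncomputable def su0A : ℕ := (nat_lit 0xfdf57a3ed15bfe05503d417ce4e789e41783)
noncomputable def su0I : ℕ := (nat_lit 0x960eb0f2c534e0670b445ccf55fffa55aff5)
noncomputable def su0S : List St := [⟨1, 0, 0, [(nat_lit 1)], [(nat_lit 1923), (nat_lit 1929), (nat_lit 2498), (nat_lit 2503), (nat_lit 3649), (nat_lit 3662)]⟩,
  ⟨0, 0, 0, [], []⟩,
  ⟨1, 0, 0, [(nat_lit 1)], [(nat_lit 1923), (nat_lit 1929), (nat_lit 2498), (nat_lit 2503), (nat_lit 3649), (nat_lit 3662)]⟩,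
  ⟨0, 2, 0, [], []⟩,
  ⟨1, 0, 0, [(nat_lit 2)], [(nat_lit 347), (nat_lit 694), (nat_lit 1005), (nat_lit 1402), (nat_lit 2725), (nat_lit 4063)]⟩,
  ⟨0, 4, 0, [], []⟩,
  ⟨1, 0, 0, [(nat_lit 2)], [(nat_lit 347), (nat_lit 694), (nat_lit 1005), (nat_lit 1402), (nat_lit 2725), (nat_lit 4063)]⟩,
  ⟨0, 6, 0, [], []⟩,
  ⟨1, 0, 0, [(nat_lit 3)], [(nat_lit 380), (nat_lit 680), (nat_lit 980), (nat_lit 1360), (nat_lit 2736), (nat_lit 4064)]⟩,
  ⟨0, 8, 0, [], []⟩,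
  ⟨1, 0, 0, [(nat_lit 3)], [(nat_lit 380), (nat_lit 680), (nat_lit 980), (nat_lit 1360), (nat_lit 2736), (nat_lit 4064)]⟩,
  ⟨0, 10, 0, [], []⟩]
noncomputable def su1P : List (List (List ℕ)) := [[[(nat_lit 1)]],
  [[], [(nat_lit 0)]],
  [[(nat_lit 0)], [(nat_lit 1)]],
  [[(nat_lit 0)], [(nat_lit 1), (nat_lit 1)]]]
noncomputable def su1A : ℕ := (nat_lit 0xfdf57a3ed15bfe05503d417ce4e789e41783)
noncomputable def su1I : ℕ := (nat_lit 0x960eb0f2c534e0670b445ccf55fffa55aff5)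
noncomputable def su1S : List St := [⟨1, 0, 0, [(nat_lit 1)], [(nat_lit 380), (nat_lit 680), (nat_lit 980), (nat_lit 1360), (nat_lit 2736), (nat_lit 4064)]⟩,
  ⟨0, 0, 0, [], []⟩,
  ⟨1, 0, 0, [(nat_lit 1)], [(nat_lit 380), (nat_lit 680), (nat_lit 980), (nat_lit 1360), (nat_lit 2736), (nat_lit 4064)]⟩,
  ⟨0, 2, 0, [], []⟩,
  ⟨1, 0, 0, [(nat_lit 2)], [(nat_lit 1923), (nat_lit 1929), (nat_lit 2498), (nat_lit 2503), (nat_lit 3649), (nat_lit 3662)]⟩,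
  ⟨0, 4, 0, [], []⟩,
  ⟨1, 0, 0, [(nat_lit 2)], [(nat_lit 1923), (nat_lit 1929), (nat_lit 2498), (nat_lit 2503), (nat_lit 3649), (nat_lit 3662)]⟩,
  ⟨0, 6, 0, [], []⟩,
  ⟨1, 0, 0, [(nat_lit 3)], [(nat_lit 347), (nat_lit 694), (nat_lit 1005), (nat_lit 1402), (nat_lit 2725), (nat_lit 4063)]⟩,
  ⟨0, 8, 0, [], []⟩,
  ⟨1, 0, 0, [(nat_lit 3)], [(nat_lit 347), (nat_lit 694), (nat_lit 1005), (nat_lit 1402), (nat_lit 2725), (nat_lit 4063)]⟩,
  ⟨0, 10, 0, [], []⟩]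
noncomputable def su2P : List (List (List ℕ)) := [[[(nat_lit 1)]],
  [[], [(nat_lit 0)]],
  [[(nat_lit 0)], [(nat_lit 1)]],
  [[(nat_lit 0)], [(nat_lit 1), (nat_lit 1)]]]
noncomputable def su2A : ℕ := (nat_lit 0xfdf57a3ed15bfe05503d417ce4e789e41783)
noncomputable def su2I : ℕ := (nat_lit 0x960eb0f2c534e0670b445ccf55fffa55aff5)
noncomputable def su2S : List St := [⟨1, 0, 0, [(nat_lit 1)], [(nat_lit 347), (nat_lit 694), (nat_lit 1005), (nat_lit 1402), (nat_lit 2725), (nat_lit 4063)]⟩,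
  ⟨0, 0, 0, [], []⟩,
  ⟨1, 0, 0, [(nat_lit 1)], [(nat_lit 347), (nat_lit 694), (nat_lit 1005), (nat_lit 1402), (nat_lit 2725), (nat_lit 4063)]⟩,
  ⟨0, 2, 0, [], []⟩,
  ⟨1, 0, 0, [(nat_lit 2)], [(nat_lit 380), (nat_lit 680), (nat_lit 980), (nat_lit 1360), (nat_lit 2736), (nat_lit 4064)]⟩,
  ⟨0, 4, 0, [], []⟩,
  ⟨1, 0, 0, [(nat_lit 2)], [(nat_lit 380), (nat_lit 680), (nat_lit 980), (nat_lit 1360), (nat_lit 2736), (nat_lit 4064)]⟩,
  ⟨0, 6, 0, [], []⟩,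
  ⟨1, 0, 0, [(nat_lit 3)], [(nat_lit 1923), (nat_lit 1929), (nat_lit 2498), (nat_lit 2503), (nat_lit 3649), (nat_lit 3662)]⟩,
  ⟨0, 8, 0, [], []⟩,
  ⟨1, 0, 0, [(nat_lit 3)], [(nat_lit 1923), (nat_lit 1929), (nat_lit 2498), (nat_lit 2503), (nat_lit 3649), (nat_lit 3662)]⟩,
  ⟨0, 10, 0, [], []⟩]
noncomputable def v7 : ℕ := (nat_lit 5)

end CF.F24
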