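import Cfsg.Agent.F24.Fr

/-! The centraliser modulo its centre as a group of affine maps. -/

set_option autoImplicit false
set_option maxRecDepth 1000000
set_option linter.unusedSectionVars false

namespace CF.F24
open Cfsg Subgroup CF.Loc CF.Even CF.LX CF.Comp CF.Dce CF.J4
open scoped Pointwise

variable {G : Type*} [Group G]

/-- an element of order three is chosen -/
structure FP (E : Subgroup G) (z p : G) (π : G → ℕ) : Prop extends FH E z π where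
  pp : p ^ 3 = 1
  acp : Ac 12 E π p p0

namespace FP
variable [Finite G] {E : Subgroup G} {z p : G} {π : G → ℕ} (h : FP E z p π)
include h

theorem fr : Fr E z π := h.toFr

theorem pH : p ∈ 𝐂₁(z) := h.ac_mem h.acp

theorem phi_p : Ph E π p = φF 4 := ph_of h.fr h.acp ri_P

theorem pE : p ∉ E := fun e => P1 (h.phi_p ▸ ph_E h.fr e)

theorem p3 : orderOf p = 3 := haveI := Fact.mk Nat.prime_three
  orderOf_eq_prime h.pp fun e => h.pE (e ▸ one_mem E)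

theorem kr {g : G} (hg : g ∈ 𝐂₁(z)) (e : Ph E π g ∈ zpowers (φF 4)) : g ∈ E ⊔ zpowers p := by
  obtain ⟨k, e⟩ := e
  have := ph_div h.fr (zpow_mem h.pH k) hg ((h.hom.hom.map_zpow ⟨p, h.pH⟩ k).trans
    ((congrArg (· ^ k) h.phi_p).trans e))
  exact ((E ⊔ zpowers p).mul_mem_cancel_left (inv_mem (mem_sup_right ⟨k, rfl⟩))).1 (mem_sup_left this)

theorem inf_p : E ⊓ zpowers p = ⊥ := eq_bot_iff.2 fun x hx => by
  rcases mem_zp3 h.pp hx.2 with e | e | e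
  exacts [e, (h.pE (e ▸ hx.1)).elim, (h.pE (cube h.pp ▸ e ▸ mul_mem hx.1 hx.1)).elim]

theorem dcp {g : G} (hg : g ∈ 𝐂₁(z)) : ∃ c ∈ NP z p, ∃ f ∈ E, g = c * f := by
  obtain ⟨y, hy, e⟩ := Bt.exists_conj_mem (P := zpowers p) (H := E ⊔ zpowers p) le_sup_right Nat.prime_three
    (m := 2 ^ 13) (by rw [card_sup_of_inf_eq_bot (zpowers_le.2 (h.nor h.pH)) h.inf_p, h.card, mul_comm])
    (by norm_num) (g := g * p * g⁻¹) (h.kr (mul_mem (mul_mem hg h.pH) (inv_mem hg)) (by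
      rw [h.hom.conj hg h.pH, h.phi_p]
      simpa using nP (inv_mem (H0_norm (h.memH0 hg)))))
    (a := 1) (by rw [pow_one, conj_pow, h.pp, mul_one, mul_inv_cancel])
  obtain ⟨i, -, x, hx, rfl⟩ := Bt.exists_of_mem_sup_zpowers (h.nor h.pH) three_ne_zero (h.pp ▸ one_mem E) hy
  have h2 : x * p ^ i * g ∈ NP z p := ⟨mul_mem (mul_mem (h.le_c1 hx) (pow_mem h.pH i)) hg,
    (inv_mem_iff (H := 𝐍(zpowers p))).1 (mem_norm_zp (by convert e using 1; group))⟩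
  exact ⟨(p ^ i)⁻¹ * (x * p ^ i * g), mul_mem (inv_mem (pow_mem (show p ∈ NP z p from
    ⟨h.pH, le_normalizer (mem_zpowers p)⟩) i)) h2,
    _, norm_mem (h.nor (mul_mem (pow_mem h.pH i) hg)) (inv_mem hx), by group⟩

end FP

theorem FH.fp [Finite G] {E : Subgroup G} {z p : G} {π : G → ℕ} (h : FH E z π) (hp : p ∈ 𝐂₁(z)) (pp : p ^ 3 = 1)
    (e : Ph E π p = φF 4) : FP E z p π := ⟨h, pp, ac_of_ri h.toFr hp (e ▸ ri_P)⟩

theorem FH.exists_fp [Finite G] {E : Subgroup G} {z : G} {π : G → ℕ} (h : FH E z π) : ∃ p, FP E z p π := by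
  obtain ⟨q, hq, e⟩ := (h.im _).1 (φF_mem 4)
  have h1 := (ph_ker h.toFr (pow_mem hq 3)).1 (by rw [h.hom.pow hq, e, P3])
  refine ⟨q ^ 4, h.fp (pow_mem hq 4) ?_ (by rw [h.hom.pow hq, e, pow_succ, P3, one_mul])⟩
  rw [← pow_mul, show 4 * 3 = 3 * 2 * 2 from rfl, pow_mul, pow_mul, pow_two (q ^ 3), h.sq' _ h1, pow_two, zp_self h.zz]

/-- the generators normalise `p` -/
structure FT (E : Subgroup G) (z p : G) (π : G → ℕ) (f : ℕ → G) : Prop extends FP E z p π where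
  ph : ∀ i < 4, Ph E π (f i) = φF i
  np : ∀ i < 4, f i ∈ NP z p

theorem FP.exists_ft [Finite G] {E : Subgroup G} {z p : G} {π : G → ℕ} (h : FP E z p π) : ∃ f, FT E z p π f := by
  choose g h0 e0 using fun i => (h.im _).1 (φF_mem i)
  choose c h1 e h2 h3 using fun i => h.dcp (h0 i)
  exact ⟨c, h, fun i _ => by rw [← e0, h3 i, h.hom _ (h1 i).1 _ (h.le_c1 (h2 i)), ph_E h.fr (h2 i), mul_one],
    fun i _ => h1 i⟩

namespace FT
variable [Finite G] {E : Subgroup G} {z p : G} {π : G → ℕ} {f : ℕ → G}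
  (h : FT E z p π f)
include h

local notation "s" => sec E π p
local notation "Θ" => Th E z p π

theorem cE {g e : G} (hg : g ∈ 𝐂₁(z)) (he : e ∈ E) : g⁻¹ * e * g ∈ E := norm_mem (h.nor hg) he

theorem nm_zp {e : G} (he : e ∈ E) (k : ℕ) : Nm p (e * z ^ k) = Nm p e * z ^ k := by
  have h1 : ∀ x, p⁻¹ * (x * z ^ k) * p = p⁻¹ * x * p * z ^ k := fun x => by
    rw [mul_assoc, mul_assoc, h.fr.zpc h.pH]; group
  have h2 := h.cE h.pH he
  rw [Nm, Nm, h1, h1, mul_assoc e, ← mul_assoc (z ^ k), h.fr.zpc (h.le_c1 h2), mul_assoc _ (z ^ k),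
    zp_self h.zz, mul_one, ← mul_assoc _ _ (z ^ k)]

theorem nm_mem {e : G} (he : e ∈ E) : Nm p e ∈ zpowers z := by
  have h2 := h.cE h.pH he
  have h3 := h.cE h.pH h2
  rw [Nm, ← h.fr.ker _ (mul_mem (mul_mem he h2) h3), h.fr.mul _ (mul_mem he h2) _ h3, h.fr.mul _ he _ h2,
    h.acp.2 _ h2, h.acp.2 _ he, p0_sum (h.fr.lt' he), Nat.xor_self]

theorem s_spec {v : ℕ} (hv : v < 4096) : s v ∈ E ∧ π (s v) = v ∧ Nm p (s v) = 1 := by
  refine Classical.epsilon_spec (p := fun e => e ∈ E ∧ π e = v ∧ Nm p e = 1) ?_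
  obtain ⟨e, he, rfl⟩ := h.fr.surj v hv
  obtain ⟨k, -, e'⟩ := h.fr.mem_zp.1 (h.nm_mem he)
  exact ⟨e * z ^ k, mul_mem he (pow_mem h.mem k), h.fr.mul_zp he k, by rw [h.nm_zp he, e', zp_self h.zz]⟩

theorem sE {v : ℕ} (hv : v < 4096) : s v ∈ E := (h.s_spec hv).1

theorem sπ {v : ℕ} (hv : v < 4096) : π (s v) = v := (h.s_spec hv).2.1

theorem eq_s {e : G} (he : e ∈ E) {k : ℕ} (e1 : Nm p e = z ^ k) : e = s (π e) * z ^ k := by
  have hv := h.fr.lt' he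
  obtain ⟨j, -, e2⟩ := h.fr.eq_zp (h.sE hv) he (h.sπ hv)
  have := congrArg (Nm p) e2
  rw [h.nm_zp (h.sE hv), (h.s_spec hv).2.2, one_mul, e1] at this
  rw [this]; exact e2

theorem ex_s {e : G} (he : e ∈ E) : ∃ k < 2, e = s (π e) * z ^ k :=
  h.fr.eq_zp (h.sE (h.fr.lt' he)) he (h.sπ (h.fr.lt' he))

theorem s_zero : s 0 = 1 := by
  have := h.eq_s E.one_mem (k := 0) (by simp [Nm])
  rw [h.fr.one, pow_zero, mul_one] at this
  exact this.symm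

theorem s_mul {v w : ℕ} (hv : v < 4096) (hw : w < 4096) : s v * s w = s (v ^^^ w) * z ^ be v w := by
  obtain ⟨a1, a2, a3⟩ := h.s_spec hv
  obtain ⟨b1, b2, b3⟩ := h.s_spec hw
  have := h.eq_s (mul_mem a1 b1) (k := be v w) (by
    have c1 := h.cE h.pH a1
    have c2 := h.cE h.pH c1
    have d1 := h.cE h.pH b1
    have e1 := h.fr.comm (mul_mem b1 d1) c2
    have e2 := h.fr.comm b1 c1
    rw [h.fr.mul _ b1 _ d1, h.acp.2 _ c1, h.acp.2 _ a1, h.acp.2 _ b1, a2, b2] at e1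
    rw [h.acp.2 _ a1, a2, b2] at e2
    have e3 : be v w = bb w (vm 12 v p0) ^^^ bb (w ^^^ vm 12 w p0) (vm 12 (vm 12 v p0) p0) := by
      rw [bb_xor, iso_p0.bb hw (vm_lt 12 v p0), Nat.xor_comm (bb w (vm 12 (vm 12 v p0) p0)), ← Nat.xor_assoc,
        Nat.xor_self, Nat.zero_xor, bb_comm, be]
    rw [Nm] at a3 b3
    calc Nm p (s v * s w) = s v * (s w * (p⁻¹ * s v * p)) * (p⁻¹ * s w * p) * (p⁻¹ * (p⁻¹ * s v * p) * p) *
          (p⁻¹ * (p⁻¹ * s w * p) * p) := by rw [Nm]; group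
      _ = s v * (p⁻¹ * s v * p) * (z ^ bb w (vm 12 v p0) * (s w * (p⁻¹ * s w * p) *
          (p⁻¹ * (p⁻¹ * s v * p) * p))) * (p⁻¹ * (p⁻¹ * s w * p) * p) := by
        rw [e2, mul_assoc _ (s w) (z ^ _), ← h.fr.zpc (h.le_c1 b1)]; simp only [mul_assoc]
      _ = z ^ bb w (vm 12 v p0) * z ^ bb (w ^^^ vm 12 w p0) (vm 12 (vm 12 v p0) p0) *
          (s v * (p⁻¹ * s v * p) * (p⁻¹ * (p⁻¹ * s v * p) * p)) *
          (s w * (p⁻¹ * s w * p) * (p⁻¹ * (p⁻¹ * s w * p) * p)) := by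
        rw [e1, ← h.fr.zpc (h.le_c1 (mul_mem c2 (mul_mem b1 d1))), ← mul_assoc (z ^ _), ← pow_add,
          ← mul_assoc _ (z ^ _), ← h.fr.zpc (h.le_c1 (mul_mem a1 c1))]
        simp only [mul_assoc]
      _ = _ := by rw [a3, b3, mul_one, mul_one, e3, zp_xor h.zz])
  rwa [h.fr.mul _ a1 _ b1, a2, b2] at this

theorem s_sq {v : ℕ} (hv : v < 4096) : s v * s v = z ^ qq v := by rw [h.fr.sq' _ (h.sE hv), h.sπ hv]

theorem s_inv {v : ℕ} (hv : v < 4096) : (s v)⁻¹ = s v * z ^ qq v :=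
  inv_eq_of_mul_eq_one_right (by rw [← mul_assoc, h.s_sq hv, zp_self h.zz])

theorem np_cases {c : G} (hc : c ∈ NP z p) : c * p = p * c ∨ c * p * c⁻¹ = p * p := by
  rcases mem_zp3 h.pp (norm_mem' hc.2 (mem_zpowers p)) with e | e | e
  · exact (h.pE (conj_eq_one_iff.1 e ▸ one_mem E)).elim
  · exact .inl (conj_eq_iff.1 e)
  · exact .inr e

theorem s_np {c : G} {x v : ℕ} (hc : c ∈ NP z p) (hx : Ac 12 E π c x) (hv : v < 4096)
    (e : qq v = 0 ∨ c * p = p * c) : c⁻¹ * s v * c = s (vm 12 v x) := by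
  obtain ⟨a1, a2, a3⟩ := h.s_spec hv
  have := h.eq_s (h.cE hc.1 a1) (k := 0) (by
    have k : ∀ q, c * p = q * c → Nm p (c⁻¹ * s v * c) = c⁻¹ * Nm q (s v) * c := fun q e => by
      rw [show p = c⁻¹ * q * c by rw [mul_assoc, ← e]; group, Nm, Nm]; group
    rcases h.np_cases hc with e1 | e1
    · rw [k p e1, a3]; group
    have e2 := e.resolve_right fun e2 => h.pE (by
      rw [e2, mul_inv_cancel_right, left_eq_mul] at e1; exact e1 ▸ one_mem E)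
    have c1 := h.cE h.pH a1
    have c2 := h.cE h.pH c1
    have e3 := h.fr.comm c2 c1
    rw [h.acp.2 _ c1, h.acp.2 _ a1, a2, iso_p0.bb (vm_lt 12 v p0) hv, bb_comm, bb_p0 hv, e2, pow_zero,
      mul_one] at e3
    rw [Nm, mul_assoc, ← e3] at a3
    rw [k (p * p) (by rw [← e1]; group), Nm, show (p * p)⁻¹ * ((p * p)⁻¹ * s v * (p * p)) * (p * p) =
      (p * p * (p * p))⁻¹ * s v * (p * p * (p * p)) by group, cube h.pp,
      show (p * p)⁻¹ * s v * (p * p) = p⁻¹ * (p⁻¹ * s v * p) * p by group, mul_assoc (s v), a3]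
    group)
  rwa [hx.2 _ a1, a2, pow_zero, mul_one] at this

theorem en {e : G} (he : e ∈ E) (hn : e ∈ NP z p) : e ∈ zpowers z := by
  have : e * p = p * e := (h.np_cases hn).resolve_right fun k => h.pE (by
    have := mul_mem (h.cE h.pH he) (inv_mem he)
    rwa [show p⁻¹ * e * p * e⁻¹ = p⁻¹ * (e * p * e⁻¹) by group, k, inv_mul_cancel_left] at this)
  refine (h.fr.ker e he).1 (p0_fix (h.fr.lt' he) ?_)
  rw [← h.acp.2 e he, mul_assoc, this, inv_mul_cancel_left]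

theorem z_np : zpowers z ≤ NP z p := zpowers_le.2 ⟨mem_c1.2 rfl, mem_norm_zp (by
  rw [mul_assoc, mem_c1.1 h.pH, inv_mul_cancel_left]; exact mem_zpowers p)⟩

theorem cd : Cd (am 12) (mo 12) (fun _ => true) Θ where
  one' := ⟨1, one_mem _, 1, one_mem _, (mul_one 1).symm, h.fr.cd.one', by rw [h.fr.one, tr_of_lt (mo_lt t12)]⟩
  mul' := by
    rintro - - x y ⟨c, a1, e, a2, rfl, a3, a4⟩ ⟨d, b1, k, b2, rfl, b3, b4⟩
    exact ⟨c * d, mul_mem a1 b1, d⁻¹ * e * d * k, mul_mem (h.cE b1.1 a2) b2, by group,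
      h.fr.congr (h.fr.cd.mul' a3 b3) fun _ _ => by rw [vm_mm t12, vm_am t12],
      by rw [h.fr.mul _ (h.cE b1.1 a2) _ b2, b3.2 _ a2, a4, b4, tr_am t12]⟩
  inv' := by
    rintro - x y ⟨c, a1, e, a2, rfl, a3, a4⟩ - k
    have : Ac 12 E π c⁻¹ y := h.fr.cd.inv' a3 rfl (mat_ext t12 (mm_lt t12 _ _) (mo_lt t12) fun v _ => by
      rw [vm_mm t12, ← vm_am t12, k])
    refine ⟨c⁻¹, inv_mem a1, c⁻¹⁻¹ * e⁻¹ * c⁻¹, h.cE (inv_mem a1.1) (inv_mem a2), by group, this, ?_⟩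
    rw [this.2 _ (inv_mem a2), h.fr.inv a2, a4]
    exact Nat.eq_of_xor_eq_zero (by rw [← tr_am t12, k, tr_of_lt (mo_lt t12)])

variable {g k : G} {x y : ℕ}

theorem ac' (hx : Θ g x) : Ac 12 E π g x := by
  obtain ⟨c, -, e, a2, rfl, a3, -⟩ := hx
  exact h.fr.congr (h.fr.cd.mul' a3 (h.fr.ac_self a2)) fun _ _ => by rw [vm_mm t12, vm_mo t12 (vm_lt _ _ _)]

theorem memH (hx : Θ g x) : g ∈ 𝐂₁(z) := h.fr.ac_mem (h.ac' hx)

theorem tr_lt' (hx : Θ g x) : tr 12 x < 4096 := by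
  obtain ⟨c, -, e, a2, -, -, a4⟩ := hx
  exact a4 ▸ h.fr.lt' a2

theorem div (hx : Θ g x) (hy : Θ k x) : g⁻¹ * k ∈ zpowers z := by
  obtain ⟨c, a1, e, a2, rfl, a3, a4⟩ := hx
  obtain ⟨d, b1, k, b2, rfl, b3, b4⟩ := hy
  obtain ⟨j, -, e1⟩ := h.fr.mem_zp.1 (h.en (h.fr.mem_of_ac (h.fr.ac_div a3 b3)) (mul_mem (inv_mem a1) b1))
  rw [show (c * e)⁻¹ * (d * k) = e⁻¹ * (c⁻¹ * d * k) by group, e1, h.fr.zpc (h.le_c1 b2), ← mul_assoc]
  exact mul_mem ((h.fr.eq_iff a2 b2).1 (a4.trans b4.symm)) (pow_mem (mem_zpowers z) j)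

theorem eq_zp (hx : Θ g x) (hy : Θ k x) : ∃ j < 2, k = g * z ^ j :=
  let ⟨j, a, b⟩ := h.fr.mem_zp.1 (h.div hx hy); ⟨j, a, by rw [← b]; group⟩

theorem kerz (hx : Θ g (mo 12)) : ∃ j < 2, g = z ^ j := by simpa using h.eq_zp h.cd.one' hx

theorem uniq' (hx : Θ g x) (hy : Θ g y) : x = y := by
  refine aff_ext t12 (lt_of_tr (h.tr_lt' hx)) (lt_of_tr (h.tr_lt' hy))
    (fun _ => h.fr.toCo.uniq (h.ac' hx) (h.ac' hy)) ?_
  obtain ⟨c, a1, e, a2, rfl, -, a4⟩ := hx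
  obtain ⟨d, b1, k, b2, e1, -, b4⟩ := hy
  have e2 : d⁻¹ * c = k * e⁻¹ := by rw [inv_mul_eq_iff_eq_mul, ← mul_assoc, ← e1]; group
  have := (h.fr.ker _ (mul_mem b2 (inv_mem a2))).2
    (h.en (mul_mem b2 (inv_mem a2)) (e2 ▸ mul_mem (inv_mem b1) a1))
  rw [h.fr.mul _ b2 _ (inv_mem a2), h.fr.inv a2] at this
  rw [← a4, ← b4, Nat.eq_of_xor_eq_zero this]

theorem ex' (hg : g ∈ 𝐂₁(z)) : ∃ x, Θ g x := by
  obtain ⟨c, a1, e, a2, rfl⟩ := h.dcp hg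
  obtain ⟨x, b1, b2⟩ := h.fr.acx a1.1
  exact ⟨x ^^^ π e <<< (12 * 12), c, a1, e, a2, rfl, h.fr.congr b2 fun _ _ => (vm_add_tl _ _ _ _).symm,
    by rw [tr_xor, tr_of_lt b1, tr_shl, Nat.zero_xor]⟩

theorem of_np (hg : g ∈ NP z p) (hx : Ac 12 E π g x) (e : tr 12 x = 0) : Θ g x :=
  ⟨g, hg, 1, one_mem E, (mul_one g).symm, hx, by rw [e, h.fr.one]⟩

theorem of_E (hg : g ∈ E) : Θ g (tl 12 (π g)) :=
  ⟨1, one_mem _, g, hg, (one_mul g).symm, h.fr.congr h.fr.cd.one' fun c hc => by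
    rw [vm_mo t12 hc, vm_tl t12 hc], (tr_tl t12 _).symm⟩

theorem th_s {v : ℕ} (hv : v < 4096) : Θ (s v) (tl 12 v) := by
  have := h.of_E (h.sE hv)
  rwa [h.sπ hv] at this

theorem mul_z (hx : Θ g x) (j : ℕ) : Θ (g * z ^ j) x := by
  obtain ⟨c, a1, e, a2, rfl, a3, a4⟩ := hx
  exact ⟨c, a1, e * z ^ j, mul_mem a2 (pow_mem h.mem j), mul_assoc _ _ _, a3, by rw [h.fr.mul_zp a2, a4]⟩

theorem th_z : Θ z (mo 12) := by simpa using h.mul_z h.cd.one' 1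

theorem memE {t : ℕ} (hx : Θ g (tl 12 t)) : ∃ j < 2, g = s t * z ^ j :=
  h.eq_zp (h.th_s (tr_tl t12 t ▸ h.tr_lt' hx)) hx

theorem np_of (hx : Θ g x) (e : tr 12 x = 0) : g ∈ NP z p := by
  obtain ⟨c, a1, f, a2, rfl, -, a4⟩ := hx
  exact mul_mem a1 (h.z_np ((h.fr.ker f a2).1 (a4.trans e)))

theorem cp (hg : g ∈ NP z p) (hx : Ac 12 E π g x) (e : mm 12 p0 x = mm 12 x p0) : g * p = p * g :=
  (h.np_cases hg).resolve_right fun k => h.pE (by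
    have := h.fr.mem_of_ac (h.fr.ac_div (h.fr.cd.mul' h.acp hx) (e ▸ h.fr.cd.mul' hx h.acp))
    rw [show (p * g)⁻¹ * (g * p) = g⁻¹ * (p⁻¹ * (g * p * g⁻¹)) * g by group, k, inv_mul_cancel_left] at this
    simpa [mul_assoc] using norm_mem' (h.nor hg.1) this)

theorem conj_s (hx : Θ g x) {v : ℕ} (hv : v < 4096) (e : qq v = 0 ∨ mm 12 p0 x = mm 12 x p0) :
    g⁻¹ * s v * g = s (vm 12 v x) * z ^ bb (vm 12 v x) (tr 12 x) := by
  obtain ⟨c, a1, f, a2, rfl, a3, a4⟩ := hx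
  rw [show (c * f)⁻¹ * s v * (c * f) = f⁻¹ * (c⁻¹ * s v * c) * f by group,
    h.s_np a1 a3 hv (e.imp_right (h.cp a1 a3)), h.fr.conj (h.sE (vm_lt 12 _ _)) a2, h.sπ (vm_lt 12 _ _), a4]

theorem th_p : Θ p p0 := h.of_np ⟨h.pH, le_normalizer (mem_zpowers p)⟩ h.acp (by decide +kernel)

end FT

end CF.F24
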