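import Cfsg.Agent.F24.Th

/-! The subgroup `B`; the elementary abelian group `V` of order `2 ^ 11`. -/

set_option autoImplicit false
set_option maxRecDepth 1000000
set_option linter.unusedSectionVars false

namespace CF.F24
open Cfsg Subgroup CF.Loc CF.Even CF.LX CF.Comp CF.Dce CF.J4
open scoped Pointwise

variable {G : Type*} [Group G]

/-- the letters of `B` -/
noncomputable def gB (E : Subgroup G) (π : G → ℕ) (p : G) (f : ℕ → G) : ℕ → G := evs (FF E π p f) wB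

namespace FT
variable [Finite G] {E : Subgroup G} {z p : G} {π : G → ℕ} {f : ℕ → G} (h : FT E z p π f)
include h

local notation "s" => sec E π p
local notation "Θ" => Th E z p π
local notation "F" => FF E π p f
local notation "b" => gB E π p f
local notation "Φ" => Ph E π

theorem tbF : Tb Θ F (nth (mo 12) LF) := by
  refine h.cd.tb (m := 17) (by decide +kernel) (fun i hi => ?_) fun i hi => by
    rw [FF, if_neg (by omega), if_neg (by omega), if_neg (by omega)]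
  rw [FF]; split_ifs with h1 h2
  · exact h.of_np (h.np i h1) (ac_of_ri h.fr (h.np i h1).1 (h.ph i h1 ▸ F24.tbF.odd i))
      ((by decide +kernel : ∀ i < 4, tr 12 (nth (mo 12) LF (2 * i + 1)) = 0) i h1)
  · rw [h2, show nth (mo 12) LF (2 * 4 + 1) = p0 by decide +kernel]; exact h.th_p
  · have : ∀ i < 17, ¬ i < 4 → ¬ i = 4 → nth (mo 12) LF (2 * i + 1) = tl 12 (2 ^ (i - 5)) ∧ 2 ^ (i - 5) < 4096 := by
      decide +kernel
    rw [(this i hi h1 h2).1]; exact h.th_s (this i hi h1 h2).2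

theorem memF (i : ℕ) : F i ∈ 𝐂₁(z) := h.memH (h.tbF.odd i)

theorem phiF (i : ℕ) : Φ (F i) = φF i := ph_of h.fr (h.ac' (h.tbF.odd i)) (F24.tbF.odd i)

theorem tbB : Tb Θ b (nth (mo 12) LB) := h.cd.tb_evs h.tbF chkB'

theorem memb (i : ℕ) : b i ∈ 𝐂₁(z) := h.memH (h.tbB.odd i)

theorem phiB (i : ℕ) : Φ (b i) = φB i := h.hom.ev' h.memF h.phiF _

theorem phi_ev (w : List ℕ) : Φ (ev b w) = ev φB w := h.hom.ev' h.memb h.phiB w

theorem b_p : b 6 = p := (mul_one _).trans (evL_odd F 4)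

theorem b_s {i : ℕ} (hi : i < 12) : b (7 + i) = s (2 ^ i) := by
  have : ∀ i < 12, nth [] wB (7 + i) = [2 * (5 + i) + 1] := by decide +kernel
  rw [gB, evs, this i hi, ev_single, FF, if_neg (by omega), if_neg (by omega), if_pos (by omega),
    Nat.add_sub_cancel_left]

theorem E_le {K : Subgroup G} (hK : ∀ i < 12, s (2 ^ i) ∈ K) : E ≤ K := by
  have hz : z ∈ K := by
    have := h.fr.conj (h.sE (v := 2 ^ 0) (by norm_num)) (h.sE (v := 2 ^ 6) (by norm_num))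
    rw [h.sπ (by norm_num), h.sπ (by norm_num), show bb (2 ^ 0) (2 ^ 6) = 1 by decide +kernel, pow_one] at this
    exact (K.mul_mem_cancel_left (hK 0 (by norm_num))).1 (this ▸ mul_mem (mul_mem (inv_mem (hK 6 (by norm_num)))
      (hK 0 (by norm_num))) (hK 6 (by norm_num)))
  have key := xor_ind (n := 12) (P := fun v => s v ∈ K) (h.s_zero ▸ one_mem K) hK fun v hv w hw h1 h2 =>
    (K.mul_mem_cancel_right (pow_mem hz _)).1 (h.s_mul hv hw ▸ mul_mem h1 h2)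
  intro e he
  obtain ⟨k, -, e1⟩ := h.ex_s he
  exact e1 ▸ mul_mem (key _ (h.fr.lt' he)) (pow_mem hz k)

theorem card_pre {T : Subgroup O} (hT : T ≤ H0) : Nat.card (h.hom.pre T) = Nat.card T * 2 ^ 13 := by
  have l : h.hom.pre T ≤ 𝐂₁(z) := fun g hg => (h.hom.mem_pre.1 hg).1
  rw [card_im h.fr l, inf_eq_right.2 fun g hg => h.hom.mem_pre.2 ⟨h.le_c1 hg, ph_E h.fr hg ▸ one_mem T⟩, h.card]
  refine congrArg (fun X : Subgroup _ => Nat.card X * _) (Subgroup.ext fun σ => h.hom.mem_im.trans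
    ⟨fun ⟨g, h1, e⟩ => e ▸ (h.hom.mem_pre.1 h1).2, fun hσ => ?_⟩)
  obtain ⟨g, h1, rfl⟩ := (h.im σ).1 (hT hσ)
  exact ⟨g, h.hom.mem_pre.2 ⟨h1, hσ⟩, rfl⟩

theorem pre_le {T : Subgroup O} {K : Subgroup G} (hK : K ≤ 𝐂₁(z)) (h1 : E ≤ K)
    (h2 : T ≤ h.hom.im K hK) : h.hom.pre T ≤ K := fun g hg => by
  obtain ⟨h3, h4⟩ := h.hom.mem_pre.1 hg
  obtain ⟨k, h5, e⟩ := h.hom.mem_im.1 (h2 h4)
  exact (K.mul_mem_cancel_left (inv_mem h5)).1 (h1 (ph_div h.fr (hK h5) h3 e))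

/-- the subgroup `B` -/
noncomputable def B : Subgroup G := h.hom.pre B0

theorem mem_B {g : G} : g ∈ h.B ↔ g ∈ 𝐂₁(z) ∧ Φ g ∈ B0 := h.hom.mem_pre

theorem card_B : Nat.card h.B = 2 ^ 11 * 138240 := by
  rw [B, h.card_pre inf_le_left, card_B0]; norm_num

theorem b_mem (i : ℕ) : b i ∈ h.B := h.mem_B.2 ⟨h.memb i, h.phiB i ▸ φB_mem i⟩

theorem B_le {K : Subgroup G} (hK : ∀ i, b i ∈ K) : h.B ≤ K :=
  le_trans (h.pre_le (K := K ⊓ 𝐂₁(z)) inf_le_right (le_inf (h.E_le fun i hi => h.b_s hi ▸ hK _) h.le_c1)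
    (B0_le fun i => h.hom.mem_im.2 ⟨b i, ⟨hK i, h.memb i⟩, h.phiB i⟩)) inf_le_left

end FT

/-- the coordinates of `V` -/
structure FV (E : Subgroup G) (z p : G) (π : G → ℕ) (f : ℕ → G)
    (V : Subgroup G) (ν : G → ℕ) : Prop extends FT E z p π f where
  co : Co 11 V ⊥ ν
  zV : z ∈ V
  νz : ν z = 1
  sV : ∀ u < 64, sec E π p u ∈ V ∧ ν (sec E π p u) = 2 * u
  th : ∀ v ∈ V, Th E z p π v (thV (ν v))

namespace FT
variable [Finite G] {E : Subgroup G} {z p : G} {π : G → ℕ} {f : ℕ → G}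
  (h : FT E z p π f)
include h

local notation "s" => sec E π p
local notation "Θ" => Th E z p π
local notation "b" => gB E π p f

theorem a_sq : ∃ k < 2, ∀ c < 16, c ≠ 0 → chi b 4 c * chi b 4 c = z ^ k := by
  obtain ⟨k, hk, e⟩ := h.kerz (g := b 0 * b 0) (by
    rw [← show am 12 (nth (mo 12) LB (2 * 0 + 1)) (nth (mo 12) LB (2 * 0 + 1)) = mo 12 by decide +kernel]
    exact h.cd.mul' (h.tbB.odd 0) (h.tbB.odd 0))
  refine ⟨k, hk, fun c hc h0 => ?_⟩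
  have e1 : ∀ c < 16, c ≠ 0 → evW (am 12) (mo 12) (nth (mo 12) LB) (lapp (winv (nth [] wcA c)) (1 :: nth [] wcA c)) =
    chiC (am 12) (mo 12) (fun i => nth (mo 12) LB (2 * i + 1)) 4 c := by decide +kernel
  obtain ⟨j, -, e2⟩ := h.eq_zp (h.cd.ev h.tbB _) (e1 c hc h0 ▸ h.cd.chi (fun i _ => h.tbB.odd i) c)
  have h1 := ev_mem h.memb (nth [] wcA c)
  rw [ev_lapp, ev_winv, ev_cons, show evL b 1 = b 0 from evL_odd b 0] at e2
  have h2 := mul_mem (inv_mem h1) (mul_mem (h.memb 0) h1)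
  rw [e2, mul_assoc, ← mul_assoc (z ^ j), h.fr.zpc h2, mul_assoc _ (z ^ j), zp_self h.zz, mul_one,
    ← h.fr.conj_zp h1 k, ← e]; group

theorem a_inv : (∀ i < 4, b i * b i = 1) ∧ ∀ i < 4, ∀ j < 4, b i * b j = b j * b i := by
  obtain ⟨k, hk, e⟩ := h.a_sq
  have e1 : ∀ i < 4, b i * b i = z ^ k := fun i hi => by
    have := e (2 ^ i) (Nat.pow_lt_pow_right one_lt_two hi) (by positivity)
    rwa [chi_pow _ hi] at this
  have e2 : ∀ i < 4, ∀ j < i, b j * b i * (b j * b i) = z ^ k := fun i hi j hj => by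
    have := e (2 ^ j + 2 ^ i) (by revert i j; decide) (by positivity)
    rwa [show chi b 4 (2 ^ j + 2 ^ i) = 1 * b j * b i by interval_cases i <;> interval_cases j <;> rfl,
      one_mul] at this
  have hz : ∀ i, z * b i = b i * z := fun i => (mem_c1.1 (h.memb i)).symm
  obtain rfl | rfl : k = 0 ∨ k = 1 := by omega
  · rw [pow_zero] at e1 e2
    have e3 : ∀ i < 4, ∀ j < i, b j * b i = b i * b j := fun i hi j hj => by
      rw [eq_inv_of_mul_eq_one_left (e2 i hi j hj), mul_inv_rev, inv_eq_of_mul_eq_one_left (e1 i hi),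
        inv_eq_of_mul_eq_one_left (e1 j (by omega))]
    refine ⟨e1, fun i hi j hj => ?_⟩
    rcases lt_trichotomy i j with a | rfl | a
    exacts [e3 j hj i a, rfl, (e3 i hi j a).symm]
  · rw [pow_one] at e e1 e2
    have a1 := anti h.zz (hz 0) (hz 1) (e1 0 (by norm_num)) (e1 1 (by norm_num)) (e2 1 (by norm_num) 0 one_pos)
    have a2 := anti h.zz (hz 0) (hz 2) (e1 0 (by norm_num)) (e1 2 (by norm_num)) (e2 2 (by norm_num) 0 two_pos)
    have a3 := anti (y := b 1 * b 2) h.zz (hz 0) (by rw [← mul_assoc, hz, mul_assoc, hz, mul_assoc])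
      (e1 0 (by norm_num)) (e2 2 (by norm_num) 1 one_lt_two) (by
        have := e 7 (by norm_num) (by norm_num)
        rwa [show chi b 4 7 = 1 * b 0 * b 1 * b 2 from rfl, one_mul, mul_assoc (b 0)] at this)
    rw [mul_assoc, a2, ← mul_assoc, ← mul_assoc, a1, mul_assoc _ z, hz, ← mul_assoc, mul_assoc _ z, h.zz,
      mul_one, mul_assoc (b 0), left_eq_mul] at a3
    exact (h.z_ne a3).elim

theorem exists_fv : ∃ V ν, FV E z p π f V ν := by
  let vg : ℕ → G := fun i => if i = 0 then z else if i < 7 then s (2 ^ (i - 1)) else b (i - 7)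
  have l64 : ∀ i < 7, 2 ^ (i - 1) < 64 := by decide
  have l4 : ∀ i < 7, 2 ^ (i - 1) < 4096 := by decide
  have t1 : ∀ i < 11, Θ (vg i) (nth (mo 12) EV i) := fun i hi => by
    have : ∀ i < 11, nth (mo 12) EV i = if i = 0 then mo 12 else if i < 7 then tl 12 (2 ^ (i - 1)) else
      nth (mo 12) LB (2 * (i - 7) + 1) := by decide +kernel
    rw [this i hi]; simp only [vg]; split_ifs with h1 h2
    exacts [h.th_z, h.th_s (l4 i h2), h.tbB.odd _]
  have hz : ∀ i < 11, z * vg i = vg i * z := fun i hi => (mem_c1.1 (h.memH (t1 i hi))).symm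
  have sb : ∀ i < 7, ∀ j < 4, s (2 ^ (i - 1)) * b j = b j * s (2 ^ (i - 1)) := fun i hi j hj => by
    have := h.conj_s (h.tbB.odd j) (l4 i hi) (Or.inl (qq_lt64 _ (l64 i hi)))
    have e : ∀ i < 7, ∀ j < 4, vm 12 (2 ^ (i - 1)) (nth (mo 12) LB (2 * j + 1)) = 2 ^ (i - 1) ∧
      tr 12 (nth (mo 12) LB (2 * j + 1)) = 0 := by decide +kernel
    rwa [(e i hi j hj).1, (e i hi j hj).2, bb_zero', pow_zero, mul_one, mul_assoc, inv_mul_eq_iff_eq_mul] at this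
  obtain ⟨V, ν, C, hV⟩ := exists_co (g := vg) t11 (fun i hi => by
      simp only [vg]; split_ifs with h1 h2
      exacts [h.zz, by rw [h.s_sq (l4 i h2), qq_lt64 _ (l64 i h2), pow_zero], h.a_inv.1 _ (by omega)])
    (fun i hi j hj => by
      by_cases h1 : i = 0
      · rw [h1]; exact hz j hj
      by_cases h2 : j = 0
      · rw [h2]; exact (hz i hi).symm
      simp only [vg, if_neg h1, if_neg h2]; split_ifs with h3 h4 h4
      · exact (h.fr.comm_iff (h.sE (l4 i h3)) (h.sE (l4 j h4))).2 (by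
          rw [h.sπ (l4 i h3), h.sπ (l4 j h4), (be_lt64 _ (l64 i h3) _ (l64 j h4)).2])
      exacts [sb i h3 _ (by omega), (sb j h4 _ (by omega)).symm, h.a_inv.2 _ (by omega) _ (by omega)])
    fun c hc e => by
      have h1 := h.cd.chi t1 c
      rw [e] at h1
      have h3 := thV_mo hc ((thV_eq c).trans (h.uniq' h1 h.cd.one'))
      obtain rfl | rfl : c = 0 ∨ c = 2 ^ 0 := by omega
      exacts [rfl, (h.z_ne ((chi_pow vg t11).symm.trans e)).elim]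
  have h0 := hV (2 ^ 0) (by norm_num)
  rw [chi_pow vg t11] at h0
  refine ⟨V, ν, h, C, h0.1, h0.2, xor_ind (n := 6) (P := fun u => s u ∈ V ∧ ν (s u) = 2 * u)
    (h.s_zero ▸ ⟨one_mem V, C.one⟩) (fun i hi => ?_) fun u hu w hw h1 h2 => ?_, fun v hv => ?_⟩
  · have := hV (2 ^ (i + 1)) (Nat.pow_lt_pow_right one_lt_two (by omega))
    rw [chi_pow vg (by omega)] at this
    simpa only [vg, if_neg (Nat.succ_ne_zero i), if_pos (show i + 1 < 7 by omega), Nat.add_sub_cancel,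
      pow_succ'] using this
  · have := h.s_mul (hu.trans (by norm_num)) (hw.trans (by norm_num))
    rw [(be_lt64 u hu w hw).1, pow_zero, mul_one] at this
    refine this ▸ ⟨mul_mem h1.1 h2.1, ?_⟩
    rw [C.mul _ h1.1 _ h2.1, h1.2, h2.2, ← pow_one 2, mul_comm _ u, mul_comm _ w, mul_comm _ (u ^^^ w),
      ← Nat.shiftLeft_eq, ← Nat.shiftLeft_eq, ← Nat.shiftLeft_eq, Nat.shiftLeft_xor_distrib]
  · have := hV _ (C.lt v hv)
    rw [C.ext hv this.1 this.2.symm, this.2]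
    exact thV_eq _ ▸ h.cd.chi t1 _

end FT

/-- the action of the letters of `B` on `V` is given by the table `L` -/
structure FW (E : Subgroup G) (z p : G) (π : G → ℕ) (f : ℕ → G)
    (V : Subgroup G) (ν : G → ℕ) (L : List ℕ) : Prop extends FV E z p π f V ν where
  tv : Tb (Ac 11 V ν) (gB E π p f) (nth (mo 11) L)

namespace FV
variable [Finite G] {E : Subgroup G} {z p : G} {π : G → ℕ} {f : ℕ → G}
  {V : Subgroup G} {ν : G → ℕ} (h : FV E z p π f V ν)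
include h

local notation "s" => sec E π p
local notation "Θ" => Th E z p π
local notation "b" => gB E π p f

theorem ltV {v : G} (hv : v ∈ V) : ν v < 2048 := h.co.lt v hv

theorem card_V : Nat.card V = 2 ^ 11 := by rw [h.co.card, card_bot, mul_one]

theorem V_le : V ≤ 𝐂₁(z) := fun v hv => h.memH (h.th v hv)

theorem νzp {k : ℕ} (hk : k < 2) : ν (z ^ k) = k := by
  obtain rfl | rfl : k = 0 ∨ k = 1 := by omega
  exacts [by rw [pow_zero, h.co.one], by rw [pow_one, h.νz]]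

theorem mul_zp {v : G} (hv : v ∈ V) {k : ℕ} (hk : k < 2) : v * z ^ k ∈ V ∧ ν (v * z ^ k) = ν v ^^^ k :=
  ⟨mul_mem hv (pow_mem h.zV k), by rw [h.co.mul v hv _ (pow_mem h.zV k), h.νzp hk]⟩

theorem mem_of_th {g : G} {c : ℕ} (hc : c < 2048) (hg : Θ g (thV c)) : g ∈ V ∧ ∃ j < 2, ν g = c ^^^ j := by
  obtain ⟨w, hw, rfl⟩ := h.co.surj c hc
  obtain ⟨j, hj, rfl⟩ := h.eq_zp (h.th w hw) hg
  exact ⟨(h.mul_zp hw hj).1, j, hj, (h.mul_zp hw hj).2⟩

theorem cj_mem {g v : G} {x c : ℕ} (hg : Θ g x) (hv : v ∈ V) (hc : c < 2048)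
    (e : am 12 (thV (ν v)) x = am 12 x (thV c)) : g⁻¹ * v * g ∈ V ∧ ∃ j < 2, ν (g⁻¹ * v * g) = c ^^^ j := by
  obtain ⟨w, hw, rfl⟩ := h.co.surj c hc
  obtain ⟨j, hj, e1⟩ := h.eq_zp (h.cd.mul' hg (h.th w hw)) (e ▸ h.cd.mul' (h.th v hv) hg)
  rw [mul_assoc, e1, mul_assoc, inv_mul_cancel_left]
  exact ⟨(h.mul_zp hw hj).1, j, hj, (h.mul_zp hw hj).2⟩

theorem acV {g : G} {x y : ℕ} (hg : Θ g x) (e : lowOK x y = true)
    (h1 : ∀ j < 4, ∀ a ∈ V, ν a = 2 ^ (7 + j) → g⁻¹ * a * g ∈ V ∧ ν (g⁻¹ * a * g) = fld 11 y (7 + j)) :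
    Ac 11 V ν g y := h.co.ac_of fun i hi a ha e1 => by
  obtain ⟨e2, e3⟩ := brec_and.1 e
  rcases i with _ | i
  · rw [h.co.ext ha h.zV (e1.trans h.νz.symm), mul_assoc, ← mem_c1.1 (h.memH hg), inv_mul_cancel_left,
      beq_iff.1 e2]
    exact ⟨h.zV, h.νz⟩
  by_cases h2 : i < 6
  · have h3 := allFrom_zero.1 e3 i h2
    rw [force_eq] at h3
    obtain ⟨h4, h5⟩ := brec_and.1 h3
    have h6 : 2 ^ i < 64 := Nat.pow_lt_pow_right one_lt_two h2
    have h7 := h.sV _ (Nat.lt_succ_of_le (ble_iff.1 h4))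
    rw [h.co.ext ha (h.sV _ h6).1 (by rw [e1, (h.sV _ h6).2, pow_succ']),
      h.conj_s hg (h6.trans (by norm_num)) (Or.inl (qq_lt64 _ h6)), beq_iff.1 h5]
    exact ⟨(h.mul_zp h7.1 (bb_lt _ _)).1, (h.mul_zp h7.1 (bb_lt _ _)).2.trans (by rw [h7.2]; rfl)⟩
  · obtain ⟨j, rfl⟩ : ∃ j, i = 6 + j := ⟨i - 6, by omega⟩
    rw [show 6 + j + 1 = 7 + j by omega] at e1 ⊢
    exact h1 j (by omega) a ha e1

theorem ac_s {w y : ℕ} (hw : w < 4096) (e : sOK w y = true) : Ac 11 V ν (s w) y := by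
  obtain ⟨e1, e2⟩ := brec_and.1 e
  refine h.acV (h.th_s hw) e1 fun j hj a ha e3 => ?_
  have h3 := allFrom_zero.1 e2 j hj
  rw [force_eq] at h3
  obtain ⟨h4, h5⟩ := brec_and.1 h3
  have h6 := h.conj_s (e3 ▸ h.th a ha) hw (Or.inr (JV.thA j hj).2)
  rw [(JV.thA j hj).1, bb_zero', pow_zero, mul_one] at h6
  have h7 := h.sV _ (Nat.lt_succ_of_le (ble_iff.1 h4))
  have h8 : vm 12 w (thV (2 ^ (7 + j))) < 4096 := vm_lt _ _ _
  rw [show (s w)⁻¹ * a * s w = a * ((a⁻¹ * s w * a)⁻¹ * s w) by group, h6, h.s_inv h8, mul_assoc,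
    h.fr.zpc (h.le_c1 (h.sE hw)), ← mul_assoc (s _), h.s_mul h8 hw, ← mul_assoc, ← mul_assoc,
    show fld 11 y (7 + j) = _ from beq_iff.1 h5]
  have h9 := h.mul_zp (mul_mem ha h7.1) (bb_lt (vm 12 (vm 12 (vm 12 w (thV (2 ^ (7 + j)))) p0) p0) w)
  refine ⟨(h.mul_zp h9.1 (qq_lt _)).1, (h.mul_zp h9.1 (qq_lt _)).2.trans ?_⟩
  rw [h9.2, h.co.mul _ ha _ h7.1, h7.2, e3]; rfl

theorem ac_p : Ac 11 V ν p Yp := h.acV h.th_p (by decide +kernel) fun j hj a ha e => by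
  have h1 := e ▸ h.th a ha
  rw [mul_assoc, h.cp (h.np_of h1 (JV.thA j hj).1) (h.ac' h1) (JV.thA j hj).2, inv_mul_cancel_left, e]
  exact ⟨ha, (by decide +kernel : ∀ j < 4, 2 ^ (7 + j) = fld 11 Yp (7 + j)) j hj⟩

theorem ac_bits {g : G} {x y : ℕ} (hg : Θ g x) (e : ∀ c < 16, lowOK x (y ^^^ spr c) = true)
    (e1 : ∀ j < 4, am 12 (thV (2 ^ (7 + j))) x = am 12 x (thV (fld 11 y (7 + j)))) :
    ∃ c < 16, Ac 11 V ν g (y ^^^ spr c) := by
  choose! a h1 h2 using fun j (hj : j < 4) => h.co.surj (2 ^ (7 + j)) (Nat.pow_lt_pow_right one_lt_two (by omega))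
  choose! h3 k h4 h5 using fun j (hj : j < 4) => h.cj_mem hg (h1 j hj) (fld_lt 11 y (7 + j)) (h2 j hj ▸ e1 j hj)
  have e2 : ∀ a < 2, ∀ e < 2, ∀ c < 2, ∀ d < 2, ∀ j < 4,
    fld 11 (spr (a + 2 * e + 4 * c + 8 * d)) (7 + j) = [a, e, c, d].getD j 0 := by decide +kernel
  have := h4 0 (by norm_num); have := h4 1 (by norm_num); have := h4 2 (by norm_num); have := h4 3 (by norm_num)
  refine ⟨k 0 + 2 * k 1 + 4 * k 2 + 8 * k 3, by omega, h.acV hg (e _ (by omega)) fun j hj v hv e3 => ?_⟩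
  rw [h.co.ext hv (h1 j hj) (e3.trans (h2 j hj).symm), fld_xor, h5 j hj,
    e2 _ (by omega) _ (by omega) _ (by omega) _ (by omega) j hj]
  exact ⟨h3 j hj, by interval_cases j <;> rfl⟩

theorem gauge {e : ℕ} (he : e < 16) : FV E z p π f V fun v => vm 11 (ν v) (mo 11 ^^^ spr e) := by
  have e1 : ∀ e < 16, mm 11 (mo 11 ^^^ spr e) (mo 11 ^^^ spr e) = mo 11 ∧ vm 11 1 (mo 11 ^^^ spr e) = 1 ∧
    (∀ u < 64, vm 11 (2 * u) (mo 11 ^^^ spr e) = 2 * u) ∧ ∀ i < 11, vm 11 (2 ^ i) (spr e) < 2 ^ 1 := by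
    decide +kernel
  obtain ⟨h1, h2, h3, h4⟩ := e1 e he
  refine ⟨h.toFT, h.co.change h1 h1, h.zV, (congrArg (vm 11 · _) h.νz).trans h2, fun u hu => ⟨(h.sV u hu).1,
    (congrArg (vm 11 · _) (h.sV u hu).2).trans (h3 u hu)⟩, fun v hv => ?_⟩
  have h5 := xor_ind (n := 11) (P := fun c => vm 11 c (spr e) < 2 ^ 1) (by rw [vm_zero]; norm_num) h4
    (fun a _ c _ h1 h2 => by rw [vm_xor]; exact Nat.xor_lt_two_pow h1 h2) _ (h.ltV hv)
  have h6 := h.mul_z (h.th _ (h.mul_zp hv h5).1) (vm 11 (ν v) (spr e))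
  rw [(h.mul_zp hv h5).2, mul_assoc, zp_self h.zz, mul_one] at h6
  rwa [vm_xor', vm_mo t11 (h.ltV hv)]

theorem b_V {i : ℕ} (hi : i < 4) : b i ∈ V := (h.mem_of_th (c := 2 ^ (7 + i))
  (Nat.pow_lt_pow_right one_lt_two (show 7 + i < 11 by omega)) (by
    rw [show thV (2 ^ (7 + i)) = nth (mo 12) LB (2 * i + 1) by revert i; decide +kernel]; exact h.tbB.odd i)).1

theorem fw {L : List ℕ} (hL : L = LVs ∨ L = LVn) (h1 : Ac 11 V ν (b 4) (nth (mo 11) L 9))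
    (h2 : Ac 11 V ν (b 5) (nth (mo 11) L 11)) : FW E z p π f V ν L := by
  have e : tabOK (mm 11) (mo 11) (fun _ => true) L 19 = true ∧ (∀ i < 4, nth (mo 11) L (2 * i + 1) = mo 11) ∧
      nth (mo 11) L 13 = Yp ∧ ∀ i < 12, sOK (2 ^ i) (nth (mo 11) L (2 * (7 + i) + 1)) = true := by
    rcases hL with rfl | rfl <;> decide +kernel
  refine ⟨h, h.co.cd.tb e.1 (fun i hi => ?_) fun i hi => evs_ge _ (le_trans (by decide +kernel) hi)⟩
  by_cases h3 : i < 4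
  · rw [e.2.1 i h3]; exact h.co.ac_self (h.b_V h3)
  by_cases h4 : i < 7
  · obtain rfl | rfl | rfl : i = 4 ∨ i = 5 ∨ i = 6 := by omega
    exacts [h1, h2, by rw [h.b_p, e.2.2.1]; exact h.ac_p]
  · obtain ⟨j, rfl⟩ : ∃ j, i = 7 + j := ⟨i - 7, by omega⟩
    rw [h.b_s (by omega)]
    exact h.ac_s (Nat.pow_lt_pow_right one_lt_two (show j < 12 by omega)) (e.2.2.2 j (by omega))

theorem exists_fw : ∃ ν L, (L = LVs ∨ L = LVn) ∧ FW E z p π f V ν L := by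
  obtain ⟨c, hc, h1⟩ := h.ac_bits (y := Y1) (h.tbB.odd 4) (by decide +kernel) (by decide +kernel)
  obtain ⟨d, hd, h2⟩ := h.ac_bits (y := Y2) (h.tbB.odd 5) (by decide +kernel) (by decide +kernel)
  obtain ⟨e, he, L, hL, e1, h3, h4⟩ := bits_spec hc hd fun r hr => by
    have e1 : ∀ r ∈ relS, evW (am 12) (mo 12) (sel2 (nth (mo 12) LB (2 * 4 + 1)) (nth (mo 12) LB (2 * 5 + 1))) r.1 =
      pw (am 12) (mo 12) p0 r.2 ∧ pw (mm 11) (mo 11) Yp r.2 < 2 ^ (11 * 11) := by decide +kernel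
    have l1 : ∀ c < 16, Y1 ^^^ spr c < 2 ^ (11 * 11) ∧ Y2 ^^^ spr c < 2 ^ (11 * 11) := by decide +kernel
    have h5 := h.cd.evD (sel2_ind (h.tbB.odd 4) (h.tbB.odd 5)) r.1
    have h6 := h.co.cd.evD (sel2_ind h1 h2) r.1
    obtain ⟨j, -, e2⟩ := h.eq_zp (h.cd.pow h.th_p r.2) ((e1 r hr).1 ▸ h5)
    have h7 := h.co.cd.mul' (h.co.cd.pow h.ac_p r.2) (h.co.ac_self (pow_mem h.zV j))
    rw [← e2, mm_mo t11 (e1 r hr).2] at h7
    refine h.co.uniq' h6 h7 (evW_lt t11 (fun x => ?_) _) (e1 r hr).2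
    unfold sel2; cases Nat.beq x 0
    exacts [(l1 d hd).2, (l1 c hc).1]
  exact ⟨_, L, hL, (h.gauge he).fw hL (h3 ▸ h.co.ac_change e1 h1) (h4 ▸ h.co.ac_change e1 h2)⟩

end FV

end CF.F24
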